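/-
The subgroup of Fi22 generated by the letters [1,2,3,4,5,6,7,8] is presented by the relators on these letters.
-/
import Cfsg.Agent.Lib.TC.Restrict
import Cfsg.Agent.Lib.TC.Data.Fi22S7.Main
import Cfsg.Agent.Lib.TC.Data.Fi22S6.Main
import Cfsg.Agent.Lib.TC.Data.Fi22S5.Main
import Cfsg.Agent.Lib.TC.Data.Fi22S4.Main
import Cfsg.Agent.Lib.TC.Data.Fi22S3.Main
import Cfsg.Agent.Lib.TC.Data.Fi22S2.Main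
import Cfsg.Agent.Lib.TC.Data.Fi22S1.Main
import Cfsg.Agent.Lib.TC.Data.Fi22S0.Main

set_option autoImplicit false

namespace Cfsg.Agent.Lib.TC.Data.Fi22Abs

open Cfsg.Agent.Lib.TC

noncomputable abbrev S : Sys Cfsg.Spor.Fi22.Gen := G.Fi22.sys

abbrev A : List ℕ := [1,2,3,4,5,6,7,8]

theorem hA : ∀ g ∈ A, S.inv g ∈ A := by decide +kernel

theorem hlt : ∀ g ∈ A, g < S.ng := by decide +kernel

noncomputable abbrev S' : Sys Cfsg.Spor.Fi22.Gen := S.restrict A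

theorem map_getD_mem {A' : List ℕ} (hsub : ∀ g ∈ A', g ∈ A) {w : List ℕ} (h : ∀ g ∈ w, g < A'.length) :
    ∀ x ∈ w.map (fun j => A'.getD j 0), x ∈ A := by
  intro x hx
  obtain ⟨j, hj, rfl⟩ := List.mem_map.1 hx
  apply hsub
  rw [List.getD_eq_getElem _ _ (h j hj)]
  exact List.getElem_mem _

theorem idx0 : (S'.letL []).relIndex (S'.letL [7]) ≠ 0 ∧ (S'.letL []).relIndex (S'.letL [7]) ≤ 2 :=
  S'.relIndex_letL [7] [] Cfsg.Agent.Lib.TC.Data.Fi22S7.invp Cfsg.Agent.Lib.TC.Data.Fi22S7.hsig Cfsg.Agent.Lib.TC.Data.Fi22S7.cert Cfsg.Agent.Lib.TC.Data.Fi22S7.words rfl rfl rfl Cfsg.Agent.Lib.TC.Data.Fi22S7.hnW Cfsg.Agent.Lib.TC.Data.Fi22S7.hnrel Cfsg.Agent.Lib.TC.Data.Fi22S7.hlett Cfsg.Agent.Lib.TC.Data.Fi22S7.hlet2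
    (fun w hw => (Cfsg.Agent.Lib.TC.Data.Fi22S7.hrelW w hw).imp id (fun h => S.restrict_rel A hA (map_getD_mem (by decide +kernel) (Cfsg.Agent.Lib.TC.Data.Fi22S7.hlet2 w (List.mem_of_mem_take hw))) (G.Fi22.of_mem_relWords h))) Cfsg.Agent.Lib.TC.Data.Fi22S7.hsubW
    (fun k hk => guard_zero 256 _ k hk) Cfsg.Agent.Lib.TC.Data.Fi22S7.doneK 2 Cfsg.Agent.Lib.TC.Data.Fi22S7.aN Cfsg.Agent.Lib.TC.Data.Fi22S7.tT (by decide) Cfsg.Agent.Lib.TC.Data.Fi22S7.hnm0 Cfsg.Agent.Lib.TC.Data.Fi22S7.doneP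

theorem b0 : 0 < Nat.card (S'.letL [7]) ∧ Nat.card (S'.letL [7]) ≤ 1 * 2 :=
  card_le_step (S'.letL_mono (by simp)) idx0 (by rw [S'.letL_nil]; exact card_bot_bound)

theorem idx1 : (S'.letL [7]).relIndex (S'.letL [3,7]) ≠ 0 ∧ (S'.letL [7]).relIndex (S'.letL [3,7]) ≤ 3 :=
  S'.relIndex_letL [3,7] [7] Cfsg.Agent.Lib.TC.Data.Fi22S6.invp Cfsg.Agent.Lib.TC.Data.Fi22S6.hsig Cfsg.Agent.Lib.TC.Data.Fi22S6.cert Cfsg.Agent.Lib.TC.Data.Fi22S6.words rfl rfl rfl Cfsg.Agent.Lib.TC.Data.Fi22S6.hnW Cfsg.Agent.Lib.TC.Data.Fi22S6.hnrel Cfsg.Agent.Lib.TC.Data.Fi22S6.hlett Cfsg.Agent.Lib.TC.Data.Fi22S6.hlet2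
    (fun w hw => (Cfsg.Agent.Lib.TC.Data.Fi22S6.hrelW w hw).imp id (fun h => S.restrict_rel A hA (map_getD_mem (by decide +kernel) (Cfsg.Agent.Lib.TC.Data.Fi22S6.hlet2 w (List.mem_of_mem_take hw))) (G.Fi22.of_mem_relWords h))) Cfsg.Agent.Lib.TC.Data.Fi22S6.hsubW
    (fun k hk => guard_zero 256 _ k hk) Cfsg.Agent.Lib.TC.Data.Fi22S6.doneK 3 Cfsg.Agent.Lib.TC.Data.Fi22S6.aN Cfsg.Agent.Lib.TC.Data.Fi22S6.tT (by decide) Cfsg.Agent.Lib.TC.Data.Fi22S6.hnm0 Cfsg.Agent.Lib.TC.Data.Fi22S6.doneP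

theorem b1 : 0 < Nat.card (S'.letL [3,7]) ∧ Nat.card (S'.letL [3,7]) ≤ 1 * 2 * 3 :=
  card_le_step (S'.letL_mono (by decide +kernel)) idx1 b0

theorem idx2 : (S'.letL [3,7]).relIndex (S'.letL [3,4,7]) ≠ 0 ∧ (S'.letL [3,7]).relIndex (S'.letL [3,4,7]) ≤ 4 :=
  S'.relIndex_letL [3,4,7] [3,7] Cfsg.Agent.Lib.TC.Data.Fi22S5.invp Cfsg.Agent.Lib.TC.Data.Fi22S5.hsig Cfsg.Agent.Lib.TC.Data.Fi22S5.cert Cfsg.Agent.Lib.TC.Data.Fi22S5.words rfl rfl rfl Cfsg.Agent.Lib.TC.Data.Fi22S5.hnW Cfsg.Agent.Lib.TC.Data.Fi22S5.hnrel Cfsg.Agent.Lib.TC.Data.Fi22S5.hlett Cfsg.Agent.Lib.TC.Data.Fi22S5.hlet2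
    (fun w hw => (Cfsg.Agent.Lib.TC.Data.Fi22S5.hrelW w hw).imp id (fun h => S.restrict_rel A hA (map_getD_mem (by decide +kernel) (Cfsg.Agent.Lib.TC.Data.Fi22S5.hlet2 w (List.mem_of_mem_take hw))) (G.Fi22.of_mem_relWords h))) Cfsg.Agent.Lib.TC.Data.Fi22S5.hsubW
    (fun k hk => guard_zero 256 _ k hk) Cfsg.Agent.Lib.TC.Data.Fi22S5.doneK 4 Cfsg.Agent.Lib.TC.Data.Fi22S5.aN Cfsg.Agent.Lib.TC.Data.Fi22S5.tT (by decide) Cfsg.Agent.Lib.TC.Data.Fi22S5.hnm0 Cfsg.Agent.Lib.TC.Data.Fi22S5.doneP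

theorem b2 : 0 < Nat.card (S'.letL [3,4,7]) ∧ Nat.card (S'.letL [3,4,7]) ≤ 1 * 2 * 3 * 4 :=
  card_le_step (S'.letL_mono (by decide +kernel)) idx2 b1

theorem idx3 : (S'.letL [3,4,7]).relIndex (S'.letL [2,3,4,7]) ≠ 0 ∧ (S'.letL [3,4,7]).relIndex (S'.letL [2,3,4,7]) ≤ 8 :=
  S'.relIndex_letL [2,3,4,7] [3,4,7] Cfsg.Agent.Lib.TC.Data.Fi22S4.invp Cfsg.Agent.Lib.TC.Data.Fi22S4.hsig Cfsg.Agent.Lib.TC.Data.Fi22S4.cert Cfsg.Agent.Lib.TC.Data.Fi22S4.words rfl rfl rfl Cfsg.Agent.Lib.TC.Data.Fi22S4.hnW Cfsg.Agent.Lib.TC.Data.Fi22S4.hnrel Cfsg.Agent.Lib.TC.Data.Fi22S4.hlett Cfsg.Agent.Lib.TC.Data.Fi22S4.hlet2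
    (fun w hw => (Cfsg.Agent.Lib.TC.Data.Fi22S4.hrelW w hw).imp id (fun h => S.restrict_rel A hA (map_getD_mem (by decide +kernel) (Cfsg.Agent.Lib.TC.Data.Fi22S4.hlet2 w (List.mem_of_mem_take hw))) (G.Fi22.of_mem_relWords h))) Cfsg.Agent.Lib.TC.Data.Fi22S4.hsubW
    (fun k hk => guard_zero 256 _ k hk) Cfsg.Agent.Lib.TC.Data.Fi22S4.doneK 8 Cfsg.Agent.Lib.TC.Data.Fi22S4.aN Cfsg.Agent.Lib.TC.Data.Fi22S4.tT (by decide) Cfsg.Agent.Lib.TC.Data.Fi22S4.hnm0 Cfsg.Agent.Lib.TC.Data.Fi22S4.doneP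

theorem b3 : 0 < Nat.card (S'.letL [2,3,4,7]) ∧ Nat.card (S'.letL [2,3,4,7]) ≤ 1 * 2 * 3 * 4 * 8 :=
  card_le_step (S'.letL_mono (by decide +kernel)) idx3 b2

theorem idx4 : (S'.letL [2,3,4,7]).relIndex (S'.letL [2,3,4,7,8]) ≠ 0 ∧ (S'.letL [2,3,4,7]).relIndex (S'.letL [2,3,4,7,8]) ≤ 10 :=
  S'.relIndex_letL [2,3,4,7,8] [2,3,4,7] Cfsg.Agent.Lib.TC.Data.Fi22S3.invp Cfsg.Agent.Lib.TC.Data.Fi22S3.hsig Cfsg.Agent.Lib.TC.Data.Fi22S3.cert Cfsg.Agent.Lib.TC.Data.Fi22S3.words rfl rfl rfl Cfsg.Agent.Lib.TC.Data.Fi22S3.hnW Cfsg.Agent.Lib.TC.Data.Fi22S3.hnrel Cfsg.Agent.Lib.TC.Data.Fi22S3.hlett Cfsg.Agent.Lib.TC.Data.Fi22S3.hlet2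
    (fun w hw => (Cfsg.Agent.Lib.TC.Data.Fi22S3.hrelW w hw).imp id (fun h => S.restrict_rel A hA (map_getD_mem (by decide +kernel) (Cfsg.Agent.Lib.TC.Data.Fi22S3.hlet2 w (List.mem_of_mem_take hw))) (G.Fi22.of_mem_relWords h))) Cfsg.Agent.Lib.TC.Data.Fi22S3.hsubW
    (fun k hk => guard_zero 256 _ k hk) Cfsg.Agent.Lib.TC.Data.Fi22S3.doneK 10 Cfsg.Agent.Lib.TC.Data.Fi22S3.aN Cfsg.Agent.Lib.TC.Data.Fi22S3.tT (by decide) Cfsg.Agent.Lib.TC.Data.Fi22S3.hnm0 Cfsg.Agent.Lib.TC.Data.Fi22S3.doneP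

theorem b4 : 0 < Nat.card (S'.letL [2,3,4,7,8]) ∧ Nat.card (S'.letL [2,3,4,7,8]) ≤ 1 * 2 * 3 * 4 * 8 * 10 :=
  card_le_step (S'.letL_mono (by decide +kernel)) idx4 b3

theorem idx5 : (S'.letL [2,3,4,7,8]).relIndex (S'.letL [1,2,3,4,7,8]) ≠ 0 ∧ (S'.letL [2,3,4,7,8]).relIndex (S'.letL [1,2,3,4,7,8]) ≤ 27 :=
  S'.relIndex_letL [1,2,3,4,7,8] [2,3,4,7,8] Cfsg.Agent.Lib.TC.Data.Fi22S2.invp Cfsg.Agent.Lib.TC.Data.Fi22S2.hsig Cfsg.Agent.Lib.TC.Data.Fi22S2.cert Cfsg.Agent.Lib.TC.Data.Fi22S2.words rfl rfl rfl Cfsg.Agent.Lib.TC.Data.Fi22S2.hnW Cfsg.Agent.Lib.TC.Data.Fi22S2.hnrel Cfsg.Agent.Lib.TC.Data.Fi22S2.hlett Cfsg.Agent.Lib.TC.Data.Fi22S2.hlet2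
    (fun w hw => (Cfsg.Agent.Lib.TC.Data.Fi22S2.hrelW w hw).imp id (fun h => S.restrict_rel A hA (map_getD_mem (by decide +kernel) (Cfsg.Agent.Lib.TC.Data.Fi22S2.hlet2 w (List.mem_of_mem_take hw))) (G.Fi22.of_mem_relWords h))) Cfsg.Agent.Lib.TC.Data.Fi22S2.hsubW
    (fun k hk => guard_zero 256 _ k hk) Cfsg.Agent.Lib.TC.Data.Fi22S2.doneK 27 Cfsg.Agent.Lib.TC.Data.Fi22S2.aN Cfsg.Agent.Lib.TC.Data.Fi22S2.tT (by decide) Cfsg.Agent.Lib.TC.Data.Fi22S2.hnm0 Cfsg.Agent.Lib.TC.Data.Fi22S2.doneP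

theorem b5 : 0 < Nat.card (S'.letL [1,2,3,4,7,8]) ∧ Nat.card (S'.letL [1,2,3,4,7,8]) ≤ 1 * 2 * 3 * 4 * 8 * 10 * 27 :=
  card_le_step (S'.letL_mono (by decide +kernel)) idx5 b4

theorem idx6 : (S'.letL [1,2,3,4,7,8]).relIndex (S'.letL [1,2,3,4,5,7,8]) ≠ 0 ∧ (S'.letL [1,2,3,4,7,8]).relIndex (S'.letL [1,2,3,4,5,7,8]) ≤ 243 :=
  S'.relIndex_letL [1,2,3,4,5,7,8] [1,2,3,4,7,8] Cfsg.Agent.Lib.TC.Data.Fi22S1.invp Cfsg.Agent.Lib.TC.Data.Fi22S1.hsig Cfsg.Agent.Lib.TC.Data.Fi22S1.cert Cfsg.Agent.Lib.TC.Data.Fi22S1.words rfl rfl rfl Cfsg.Agent.Lib.TC.Data.Fi22S1.hnW Cfsg.Agent.Lib.TC.Data.Fi22S1.hnrel Cfsg.Agent.Lib.TC.Data.Fi22S1.hlett Cfsg.Agent.Lib.TC.Data.Fi22S1.hlet2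
    (fun w hw => (Cfsg.Agent.Lib.TC.Data.Fi22S1.hrelW w hw).imp id (fun h => S.restrict_rel A hA (map_getD_mem (by decide +kernel) (Cfsg.Agent.Lib.TC.Data.Fi22S1.hlet2 w (List.mem_of_mem_take hw))) (G.Fi22.of_mem_relWords h))) Cfsg.Agent.Lib.TC.Data.Fi22S1.hsubW
    (fun k hk => guard_zero 4608 _ k hk) Cfsg.Agent.Lib.TC.Data.Fi22S1.doneK 243 Cfsg.Agent.Lib.TC.Data.Fi22S1.aN Cfsg.Agent.Lib.TC.Data.Fi22S1.tT (by decide) Cfsg.Agent.Lib.TC.Data.Fi22S1.hnm0 Cfsg.Agent.Lib.TC.Data.Fi22S1.doneP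

theorem b6 : 0 < Nat.card (S'.letL [1,2,3,4,5,7,8]) ∧ Nat.card (S'.letL [1,2,3,4,5,7,8]) ≤ 1 * 2 * 3 * 4 * 8 * 10 * 27 * 243 :=
  card_le_step (S'.letL_mono (by decide +kernel)) idx6 b5

theorem idx7 : (S'.letL [1,2,3,4,5,7,8]).relIndex (S'.letL [1,2,3,4,5,6,7,8]) ≠ 0 ∧ (S'.letL [1,2,3,4,5,7,8]).relIndex (S'.letL [1,2,3,4,5,6,7,8]) ≤ 364 :=
  S'.relIndex_letL [1,2,3,4,5,6,7,8] [1,2,3,4,5,7,8] Cfsg.Agent.Lib.TC.Data.Fi22S0.invp Cfsg.Agent.Lib.TC.Data.Fi22S0.hsig Cfsg.Agent.Lib.TC.Data.Fi22S0.cert Cfsg.Agent.Lib.TC.Data.Fi22S0.words rfl rfl rfl Cfsg.Agent.Lib.TC.Data.Fi22S0.hnW Cfsg.Agent.Lib.TC.Data.Fi22S0.hnrel Cfsg.Agent.Lib.TC.Data.Fi22S0.hlett Cfsg.Agent.Lib.TC.Data.Fi22S0.hlet2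
    (fun w hw => (Cfsg.Agent.Lib.TC.Data.Fi22S0.hrelW w hw).imp id (fun h => S.restrict_rel A hA (map_getD_mem (by decide +kernel) (Cfsg.Agent.Lib.TC.Data.Fi22S0.hlet2 w (List.mem_of_mem_take hw))) (G.Fi22.of_mem_relWords h))) Cfsg.Agent.Lib.TC.Data.Fi22S0.hsubW
    (fun k hk => guard_zero 5376 _ k hk) Cfsg.Agent.Lib.TC.Data.Fi22S0.doneK 364 Cfsg.Agent.Lib.TC.Data.Fi22S0.aN Cfsg.Agent.Lib.TC.Data.Fi22S0.tT (by decide) Cfsg.Agent.Lib.TC.Data.Fi22S0.hnm0 Cfsg.Agent.Lib.TC.Data.Fi22S0.doneP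

theorem b7 : 0 < Nat.card (S'.letL [1,2,3,4,5,6,7,8]) ∧ Nat.card (S'.letL [1,2,3,4,5,6,7,8]) ≤ 1 * 2 * 3 * 4 * 8 * 10 * 27 * 243 * 364 :=
  card_le_step (S'.letL_mono (by decide +kernel)) idx7 b6

theorem card_top : 0 < Nat.card (PresentedGroup S'.rels) ∧ Nat.card (PresentedGroup S'.rels) ≤ 1 * 2 * 3 * 4 * 8 * 10 * 27 * 243 * 364 := by
  have h := b7
  rw [S.restrict_letL_top A, Subgroup.card_top] at h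
  exact h

end Cfsg.Agent.Lib.TC.Data.Fi22Abs
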