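import Cfsg.Agent.Lib.TC.G.He
import Cfsg.Agent.Lib.TC.Simple

set_option autoImplicit false

namespace Cfsg.Agent.Lib.TC.Data.HeColl

open Cfsg.Agent.Lib.TC

noncomputable def aE_0_0 (k : ℕ) : ℕ := Nat.land (Nat.shiftRight (nat_lit 0x224aa2e800268c20000018400000e900072000f2080000000046048484388925091000000000000084000a00008dc00000008000000000000000000078276001f4ac000000005c5b364c0060ed000000141c2689d2508dabc109040000000054d604e31000267a5aa5b12e3c0b21) (Nat.mul (Nat.land k (nat_lit 255)) (nat_lit 10))) (nat_lit 1023)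
noncomputable def aE (k : ℕ) : ℕ := Bool.rec (nat_lit 0) (aE_0_0 k) (Nat.blt k (nat_lit 256))

noncomputable def aR_0_0 (k : ℕ) : ℕ := Nat.land (Nat.shiftRight (nat_lit 0x2784250324c30000a801208300000000174200000000230300009081000020030744000000000000138303471043878105c4018348050000000000000000000040c4000001430000680100000000000007030000000000000000000000000000460408030000470100c30000000000000784350734c7000038010083000000001004240723c724472801000000430000800400000000000010c110810000000300000000000000000000000000000000) (Nat.mul (Nat.land k (nat_lit 255)) (nat_lit 16))) (nat_lit 65535)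
noncomputable def aR (k : ℕ) : ℕ := Bool.rec (nat_lit 0) (aR_0_0 k) (Nat.blt k (nat_lit 256))

noncomputable def aK_0_0 (k : ℕ) : ℕ := Nat.land (Nat.shiftRight (nat_lit 0x4a093148310400) (Nat.mul (Nat.land k (nat_lit 255)) (nat_lit 5))) (nat_lit 31)
noncomputable def aK (k : ℕ) : ℕ := Bool.rec (nat_lit 0) (aK_0_0 k) (Nat.blt k (nat_lit 256))

noncomputable def aT_0_0 (k : ℕ) : ℕ := Nat.land (Nat.shiftRight (nat_lit 0x0) (Nat.mul (Nat.land k (nat_lit 255)) (nat_lit 1))) (nat_lit 1)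
noncomputable def aT (k : ℕ) : ℕ := Bool.rec (nat_lit 0) (aT_0_0 k) (Nat.blt k (nat_lit 256))

noncomputable def aN_0_0 (k : ℕ) : ℕ := Nat.land (Nat.shiftRight (nat_lit 0x0) (Nat.mul (Nat.land k (nat_lit 255)) (nat_lit 4))) (nat_lit 15)
noncomputable def aN (k : ℕ) : ℕ := Bool.rec (nat_lit 0) (aN_0_0 k) (Nat.blt k (nat_lit 256))

noncomputable def tT (i g : ℕ) : ℕ := aT (Nat.add (Nat.mul i (nat_lit 7)) g)

def words : List (List ℕ) := [[0,0],[1,1],[2,2],[3,3],[4,4],[5,5],[6,6],[0,1,0,1,0,1,0,1],[0,2,0,2],[0,3,0,3],[0,5,0,5],[0,6,0,6],[0,4,0,4],[1,2,1,2,1,2],[1,3,1,3],[1,5,1,5],[1,6,1,6],[1,4,1,4],[2,3,2,3,2,3,2,3,2,3,2,3,2,3,2,3,2,3,2,3],[2,5,2,5],[2,6,2,6],[2,4,2,4],[3,5,3,5,3,5],[3,6,3,6,3,6],[3,4,3,4,3,4],[5,6,5,6,5,6,5,6],[5,4,5,4],[6,4,6,4],[4,6,5,6,5],[4,2,1,0,2,1,0,2,1,0],[0,3,2,3,2,3,2,3,2,3,2],[2,3,5,6,2,3,5,6,2,3,5,6,2,3,5,6],[3,6,5]]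

noncomputable def Fk (k : ℕ) : Bool := checkKey (nat_lit 8) (nat_lit 7) (nat_lit 4) (nat_lit 15) aE (wordAt words) (nat_lit 33) (nat_lit 33) aR aK (nat_lit 22) (nat_lit 5) (nat_lit 31) (nat_lit 6) (nat_lit 63) k

noncomputable def cert : Cert where
  sz := 8
  ep := 7
  b := 4
  m := 15
  E := aE
  W := wordAt words
  nrel := 33
  nW := 33
  K := 256
  R := aR
  pk := aK
  fuel := 22
  bp := 5
  mp := 31
  bw := 6
  mw := 63

noncomputable def Fp (i : ℕ) : Bool := ptFin2 (nat_lit 1) (nat_lit 7) tT aN (nat_lit 8) (nat_lit 7) (nat_lit 4) (nat_lit 15) aE (nat_lit 22) i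

theorem doneK : Done Fk 256 := Done.step (Done.zero Fk) (by decide +kernel : allFrom Fk (nat_lit 0) (nat_lit 256) = true) rfl

theorem doneP : Done Fp 1 := Done.step (Done.zero Fp) (by decide +kernel : allFrom Fp (nat_lit 0) (nat_lit 1) = true) rfl

def xw : List ℕ := [3,6,5]

theorem hlett : ∀ w ∈ words, ∀ g ∈ w, g < 8 := by decide +kernel

theorem hcl : ∀ w ∈ words, (isPseudo 7 G.He.sys.inv w = true ∨ w ∈ G.He.relWords) ∨ w = xw := by decide +kernel

theorem hnm0 : aN 0 = 0 := by decide +kernel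

theorem hnW : cert.nW = words.length := by decide +kernel

theorem coll (N : Subgroup (PresentedGroup G.He.sys.rels)) [N.Normal] (hx : evalWord G.He.sys.v xw ∈ N) : N.index ≠ 0 ∧ N.index ≤ 1 := by
  refine G.He.sys.normal_index_le N cert words rfl rfl rfl hnW rfl hlett ?_ (fun k hk => guard_zero 256 _ k hk) doneK 1 aN tT (by decide) hnm0
    (fun i hi g hg => ptFin2_spec (doneP i hi) g hg)
  intro w hw
  rcases hcl w hw with h | rfl
  · exact G.He.sys.eval_mem_of_rel N (h.imp id G.He.of_mem_relWords)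
  · exact hx

end Cfsg.Agent.Lib.TC.Data.HeColl
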