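import Cfsg.Agent.Lib.TC.Data.He2058.Main
import Cfsg.Agent.Lib.TC.Simple

set_option autoImplicit false

namespace Cfsg.Agent.Lib.TC.Data.HeLev

open Cfsg.Agent.Lib.TC

open Cfsg.Agent.Lib.TC.Data.He2058

def SW : List (List ℕ) := [[0],[2],[3],[4],[5],[0,1,0,1],[1,2,3,4,1,2,3,4,1,2,3,4,1,2,3,4,1,2,3,4,1,2,3,4,1,2,3,4],[3,0],[0,2,4],[5,3,2,3,5],[2,1,2,3,4,1,2,3,4,1,2,3,4,1,2,3,4,1,2,3,4,1,2,3,4,1,2,3],[4,5,0,1,0,2,3,4,1,2,3,4,1,2,3,4,1,2,3,4,1,2,3,4,1,2,3,4,1,2,5],[0,2,4,3,2,4,5,3,2,3,5,4,2,3,4,2,0],[5,3,2,3,5,0,2,4,3,2,4,0,3,4,2,0,5,3,2,3,5],[3,2,4,3,2,1,4,3,2,1,4,3,2,1,4,3,2,1,4,3,2,1,4,3,2,1,4,3,2,1,2],[4,5,0,1,0,2,3,4,1,2,3,4,1,2,3,4,1,2,3,4,1,2,3,4,1,2,3,4,1,2,5,0,3],[5,3,2,3,5,2,1,2,3,4,1,2,3,4,1,2,3,4,1,2,3,4,1,2,3,4,1,2,3,4,1,2,3,5,3,2,3,5,3,2,1,4,3,2,1,4,3,2,1,4,3,2,1,4,3,2,1,4,3,2,1,4,3,2,1,2,0,3,4,2,0],[0,2,4,3,2,4,5,3,2,3,5,4,2,3,4,2,0]]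

theorem hlet : ∀ w ∈ SW, ∀ g ∈ w, g < 7 := by decide +kernel

noncomputable abbrev t : Tbl := checked.tableData.tbl

theorem L4 : 1 ≤ Nat.card (t.gp (SW.drop 18)) := Tbl.gp_drop_length t SW 18 (by decide +kernel)

def es3 : List (ℕ × ℕ × ℕ) := [(62,1,0)]

theorem fix3 : relsOk tT (SW.drop 18) 1 = true := by decide +kernel

theorem orb3 : orbFold tT (fun g => wordAt SW (Nat.add g 17)) (SW.length - 17) 2058 es3 (Nat.shiftLeft (nat_lit 1) (nat_lit 1)) = true := by decide +kernel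

theorem L3 : 2 ≤ Nat.card (t.gp (SW.drop 17)) :=
  Tbl.levelD t SW hlet 17 18 (by decide) 1 (by decide +kernel) fix3 es3 orb3 1 2 L4 (by decide +kernel)

def es2 : List (ℕ × ℕ × ℕ) := [(790,1147,1),(1047,1147,2),(1205,1147,3),(558,1147,4),(501,790,2),(862,790,3),(1312,790,4),(578,1047,0),(107,1047,1),(1212,1047,3),(780,1047,4),(1090,1205,0),(1137,1205,1),(12,1205,4),(243,558,0),(1063,558,1),(570,558,2),(151,558,3),(1059,558,4),(467,501,0),(612,501,1),(792,501,3),(1004,501,4),(625,862,0),(183,862,1),(481,862,4),(422,1312,0),(1182,1312,1),(1099,1312,2),(731,1312,3),(1055,1312,4),(923,578,1),(585,578,2),(903,578,3),(1041,578,4),(290,107,2),(390,107,3),(734,107,4),(850,1212,0),(78,1212,1),(143,1212,4),(1338,780,0),(1124,780,1),(1094,780,2),(1305,780,3),(1255,780,4),(187,1090,1),(1020,1090,2),(805,1090,3),(1334,1090,4),(841,1137,2),(1125,1137,3),(259,1137,4),(67,12,1),(22,12,2),(197,12,3),(626,243,1),(110,243,2),(399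,243,3),(1159,243,4),(1120,1063,2),(162,1063,3),(90,1063,4),(261,570,1),(263,570,3),(160,151,1),(114,1059,0),(1088,1059,1),(1066,1059,3),(892,1059,4),(314,467,2),(311,467,3),(7,467,4),(631,612,2),(331,612,3),(645,792,0),(1191,792,1),(699,792,4),(1257,1004,0),(992,1004,1),(911,1004,3),(427,625,1),(282,625,2),(354,625,3),(1262,625,4),(177,183,2),(106,183,3),(1240,183,4),(1238,481,1),(328,481,2),(327,481,3),(517,422,2),(1261,422,3),(76,422,4),(1144,1182,3),(192,1182,4),(867,1099,1),(596,1099,3),(843,731,1),(57,1055,0),(1226,1055,1),(854,1055,3),(4,1055,4),(921,923,2),(1129,923,3),(1025,585,0),(804,585,3),(692,585,4),(1156,903,0),(1076,903,1),(1347,1041,0),(1343,1041,4),(285,290,1),(576,290,3),(127,290,4),(1071,390,0),(778,390,4),(355,734,1),(582,734,3),(1317,734,4),(736,850,1),(394,850,2),(532,850,4),(125,78,2),(550,78,3),(1268,143,1),(92,143,2),(123,143,4),(302,1338,1),(1154,1338,4),(1053,1124,2),(1248,1124,3),(676,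1124,4),(1070,1094,3),(236,1305,1),(1326,1255,2),(967,1255,3),(111,187,2),(941,1020,1),(598,1020,4),(1193,805,1),(1341,1334,1),(1034,1334,4),(628,841,1),(1132,841,3),(361,841,4),(618,1125,1),(730,259,1),(132,259,2),(173,259,3),(85,67,2),(120,67,3),(1002,67,4),(432,626,3),(469,110,4),(786,1159,1),(601,1159,4),(687,1120,1),(252,1120,3),(884,1120,4),(562,162,1),(273,90,4),(253,261,2),(1244,263,0),(380,160,2),(527,160,3),(1108,1088,3),(1357,1088,4),(789,1066,1),(1181,892,0),(705,892,3),(133,314,0),(715,311,0),(491,311,1),(38,7,0),(258,631,3),(433,331,0),(176,331,4),(1192,645,4),(614,1257,4),(993,992,2),(547,427,2),(563,282,1),(1253,177,1),(635,106,1),(1234,1240,2),(1077,1238,4),(89,76,4),(727,1144,1),(152,192,4),(1179,596,0),(839,843,2),(656,843,3),(378,692,1),(639,1156,3),(787,550,1),(1196,173,1),(344,469,1),(629,1357,4)]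

theorem fix2 : relsOk tT (SW.drop 17) 1147 = true := by decide +kernel

theorem orb2 : orbFold tT (fun g => wordAt SW (Nat.add g 12)) (SW.length - 12) 2058 es2 (Nat.shiftLeft (nat_lit 1) (nat_lit 1147)) = true := by decide +kernel

theorem L2 : 400 ≤ Nat.card (t.gp (SW.drop 12)) :=
  Tbl.levelD t SW hlet 12 17 (by decide) 1147 (by decide +kernel) fix2 es2 orb2 2 400 L3 (by decide +kernel)

def es1 : List (ℕ × ℕ × ℕ) := [(1925,1923,0),(1931,1923,1),(1960,1923,2),(1935,1923,3),(1938,1925,2),(2012,1925,5),(2023,1925,6),(1994,1925,9),(1939,1931,0),(1989,1931,2),(1996,1931,5),(2008,1931,6),(1940,1931,7),(2040,1960,5),(1975,1960,6),(1963,1960,3),(1984,1960,7),(2026,1960,9),(2049,1935,5),(1952,1935,6),(2057,1935,9),(1992,1938,1),(1980,1938,5),(1990,1938,6),(2007,2012,6),(2002,2012,4),(1949,2012,9),(2017,2023,4),(2033,2023,9),(2003,1994,5),(2025,1994,8),(2038,1996,7),(2034,1984,2),(2043,2026,6),(2031,2057,5)]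

theorem fix1 : relsOk tT (SW.drop 12) 1923 = true := by decide +kernel

theorem orb1 : orbFold tT (fun g => wordAt SW (Nat.add g 7)) (SW.length - 7) 2058 es1 (Nat.shiftLeft (nat_lit 1) (nat_lit 1923)) = true := by decide +kernel

theorem L1 : 14400 ≤ Nat.card (t.gp (SW.drop 7)) :=
  Tbl.levelD t SW hlet 7 12 (by decide) 1923 (by decide +kernel) fix1 es1 orb1 400 14400 L2 (by decide +kernel)

def es0 : List (ℕ × ℕ × ℕ) := [(1818,1798,0),(1807,1798,1),(1819,1798,3),(1820,1798,4),(1790,1798,5),(1847,1818,4),(1799,1818,5),(1789,1818,6),(1813,1818,11),(1842,1818,15),(1816,1818,16),(1833,1807,2),(1834,1807,4),(1828,1807,7),(1794,1807,5),(1876,1807,9),(1895,1807,12),(1900,1807,13),(1908,1807,11),(1875,1807,16),(1848,1819,4),(1800,1819,5),(1887,1819,9),(1896,1819,12),(1897,1819,13),(1793,1819,6),(1903,1819,11),(1803,1819,14),(1867,1819,15),(1802,1819,16),(1849,1820,2),(1852,1820,7),(1801,1820,5),(1864,1820,9),(1914,1820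,12),(1861,1820,13),(1850,1820,6),(1845,1820,10),(1788,1820,11),(1824,1820,14),(1795,1820,15),(1857,1820,16),(1906,1790,9),(1837,1790,12),(1851,1790,13),(1830,1790,16),(1821,1847,5),(1866,1847,9),(1915,1847,12),(1870,1847,13),(1823,1847,10),(1898,1799,9),(1853,1799,12),(1786,1799,6),(1787,1799,10),(1797,1799,11),(1812,1799,15),(1826,1799,16),(1796,1789,4),(1840,1789,9),(1792,1789,12),(1891,1789,13),(1844,1813,0),(1843,1813,2),(1831,1813,3),(1838,1813,12),(1884,1813,13),(1841,1813,16),(1882,1842,1),(1815,1842,3),(1854,1842,16),(1806,1816,0),(1814,1816,8),(1901,1816,9),(1902,1816,13),(1805,1816,14),(1890,1816,16),(1808,1833,5),(1878,1833,9),(1885,1833,11),(1904,1833,16),(1871,1834,2),(1809,1834,5),(1894,1834,9),(1868,1834,6),(1804,1828,5),(1918,1828,11),(1881,1828,16),(1862,1794,12),(1877,1876,6),(1869,1876,16),(1863,1895,5),(1892,1895,13),(1872,1895,6),(1829,1895,10),(1858,1895,11),(1873,1900,5),(1865,1900,6),(1886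,1900,10),(1917,1908,6),(1855,1875,2),(1856,1875,7),(1893,1875,13),(1907,1875,10),(1822,1848,5),(1836,1848,11),(1860,1800,12),(1791,1800,14),(1832,1800,15),(1899,1887,11),(1874,1887,15),(1916,1896,6),(1905,1896,14),(1827,1896,15),(1919,1793,12),(1879,1793,13),(1817,1903,12),(1811,1803,12),(1912,1803,13),(1859,1867,16),(1825,1802,2),(1835,1802,15),(1846,1850,9),(1910,1845,16),(1920,1788,12),(1810,1795,1),(1888,1857,4),(1889,1857,5),(1921,1857,11),(1913,1857,15),(1880,1915,16),(1911,1898,16),(1883,1797,13),(1909,1796,12),(1839,1862,16)]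

theorem fix0 : relsOk tT (SW.drop 7) 1798 = true := by decide +kernel

theorem orb0 : orbFold tT (fun g => wordAt SW (Nat.add g 0)) (SW.length - 0) 2058 es0 (Nat.shiftLeft (nat_lit 1) (nat_lit 1798)) = true := by decide +kernel

theorem L0 : 1958400 ≤ Nat.card (t.gp (SW.drop 0)) :=
  Tbl.levelD t SW hlet 0 7 (by decide) 1798 (by decide +kernel) fix0 es0 orb0 14400 1958400 L1 (by decide +kernel)

end Cfsg.Agent.Lib.TC.Data.HeLev
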